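import Groth.Agent.FittEtLib.Split
import Groth.Prelude.Def_FlatCA

/-!
# The Fitting ideal of a cyclic algebra splits off the ideal on an unramified localization
-/

set_option autoImplicit false
set_option linter.style.haveILetI false
set_option maxHeartbeats 1000000

universe u

open TensorProduct

noncomputable section

namespace Groth.Agent.FittEtLib

theorem fittingZero_eq (R : Type u) [CommRing R] (M : Type u) [AddCommGroup M] [Module R M] :
    FlatCA.fittingZero R M = Fitt.ideal R M 0 := by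
  refine congrArg Ideal.span (Set.ext fun d => ⟨?_, ?_⟩)
  · rintro ⟨n, x, a, hx, ha, rfl⟩
    exact ⟨n, x, a, hx, fun i _ => ha i, rfl⟩
  · rintro ⟨n, x, a, hx, ha, rfl⟩
    exact ⟨n, x, a, hx, fun i => ha i (by omega), rfl⟩

theorem ideal_zero_fg (R : Type u) [CommRing R] (M : Type u) [AddCommGroup M] [Module R M]
    [Module.FinitePresentation R M] : (Fitt.ideal R M 0).FG := by
  classical
  obtain ⟨n, x, hx⟩ := Module.Finite.exists_fin (R := R) (M := M)
  let f : (Fin n → R) →ₗ[R] M := Fintype.linearCombination R x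
  have hf : Function.Surjective f := by
    rw [← LinearMap.range_eq_top, Fintype.range_linearCombination, hx]
  have hrel : FittLib.Rel (R := R) x = LinearMap.ker f := by
    ext v
    rw [FittLib.mem_rel, LinearMap.mem_ker]
    rfl
  obtain ⟨G, hG⟩ := Module.FinitePresentation.fg_ker f hf
  rw [FittLib.ideal_eq_D x hx, FittLib.D_eq_span_gen x (G : Set (Fin n → R)) (by rw [hG, hrel]) 0]
  refine Submodule.fg_span (Set.Finite.subset
    (Set.finite_range fun a : Fin n → (G : Set (Fin n → R)) => Matrix.det (Matrix.of fun i => (a i).1)) ?_)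
  rintro _ ⟨a, T, hT, ha, -, rfl⟩
  have hTu : T = Finset.univ := Finset.eq_univ_of_card T (by simpa using hT)
  exact ⟨fun i => ⟨a i, ha i (hTu ▸ Finset.mem_univ i)⟩, rfl⟩

theorem ideal_zero_quotient {R : Type u} [CommRing R] (I : Ideal R) : Fitt.ideal R (R ⧸ I) 0 = I := by
  have hx : Submodule.span R (Set.range fun _ : Fin 1 => (1 : R ⧸ I)) = ⊤ := by
    rw [eq_top_iff]
    rintro y -
    obtain ⟨r, rfl⟩ := Ideal.Quotient.mk_surjective y
    rw [show (Ideal.Quotient.mk I) r = r • (1 : R ⧸ I) by rw [Algebra.smul_def, mul_one]; rfl]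
    exact Submodule.smul_mem _ _ (Submodule.subset_span ⟨0, rfl⟩)
  rw [FittLib.ideal_eq_minors _ hx]
  refine le_antisymm (Ideal.span_le.mpr ?_) fun a ha => Ideal.subset_span
    ⟨fun _ _ => a, fun _ => 0, fun j => ?_, by simp⟩
  · rintro _ ⟨z, e, hz, rfl⟩
    have h1 := hz 0
    rw [Fin.sum_univ_one, Algebra.smul_def, mul_one, Ideal.Quotient.algebraMap_eq, Ideal.Quotient.eq_zero_iff_mem] at h1
    simpa [Matrix.det_unique, Subsingleton.elim (e 0) 0] using h1
  · rw [Fin.sum_univ_one, Algebra.smul_def, mul_one, Ideal.Quotient.algebraMap_eq, Ideal.Quotient.eq_zero_iff_mem]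
    exact ha

variable {A C : Type u} [CommRing A] [CommRing C] [Algebra A C]

/-- The Fitting ideal of `C ⧸ J` over the base splits off `J` on an unramified localization. -/
theorem exists_mul [Module.Finite A C] (h : C) [Algebra.FormallyUnramified A (Localization.Away h)] (J : Ideal C) :
    ∃ J' : Ideal (Localization.Away h),
      (Fitt.ideal A (C ⧸ J) 0).map (algebraMap A (Localization.Away h)) =
        J.map (algebraMap C (Localization.Away h)) * J' ∧
      (Module.FinitePresentation A (C ⧸ J) → J'.FG) := by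
  classical
  let E := Localization.Away h
  let T := E ⊗[A] C
  obtain ⟨ε₀, hε₀, hK₀⟩ := (Ideal.isIdempotentElem_iff_of_fg _ (ker_fg (A := A) h)).mp (ker_isIdempotentElem (A := A) h)
  let c := Algebra.TensorProduct.comm A E C
  let φ : T →ₐ[E] E :=
    Algebra.TensorProduct.lift (Algebra.ofId E E) (IsScalarTower.toAlgHom A C E) fun _ _ => Commute.all _ _
  have hφ : ∀ x : T, φ x = mu (A := A) h (c x) := by
    intro x
    induction x using TensorProduct.induction_on with
    | zero => simp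
    | tmul e y =>
      show φ (e ⊗ₜ y) = mu (A := A) h (y ⊗ₜ e)
      erw [mu_tmul h, Algebra.TensorProduct.lift_tmul]
      exact mul_comm _ _
    | add a b ha hb => simp only [map_add, ha, hb]
  let ε : T := c.symm ε₀
  have hε : ε * ε = ε := by
    rw [← map_mul, hε₀.eq]
  have hker : ∀ x : T, φ x = 0 ↔ ∃ t, x = t * ε := by
    intro x
    constructor
    · intro hx
      rw [hφ] at hx
      have : c x ∈ RingHom.ker (mu (A := A) h).toRingHom := hx
      rw [hK₀, Ideal.submodule_span_eq, Ideal.mem_span_singleton'] at this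
      obtain ⟨t, ht⟩ := this
      exact ⟨c.symm t, by rw [← map_mul, ht, AlgEquiv.symm_apply_apply]⟩
    · rintro ⟨t, rfl⟩
      rw [hφ, map_mul, AlgEquiv.apply_symm_apply, map_mul]
      have : ε₀ ∈ RingHom.ker (mu (A := A) h).toRingHom := by
        rw [hK₀]; exact Submodule.mem_span_singleton_self ε₀
      rw [show mu (A := A) h ε₀ = 0 from this, mul_zero]
  let P : Ideal T := J.map (Algebra.TensorProduct.includeRight : C →ₐ[A] T)
  let P₁ : Ideal T := P ⊔ Ideal.span {ε}
  let P₂ : Ideal T := P ⊔ Ideal.span {1 - ε}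
  let π₁ : (T ⧸ P) →ₐ[E] (T ⧸ P₁) := Ideal.Quotient.factorₐ E le_sup_left
  let π₂ : (T ⧸ P) →ₐ[E] (T ⧸ P₂) := Ideal.Quotient.factorₐ E le_sup_left
  have hbij : Function.Bijective (π₁.prod π₂) := by
    constructor
    · rw [injective_iff_map_eq_zero]
      intro q hq
      obtain ⟨x, rfl⟩ := Ideal.Quotient.mk_surjective q
      obtain ⟨h1, h2⟩ := Prod.ext_iff.mp hq
      have hx1 : x ∈ P₁ := Ideal.Quotient.eq_zero_iff_mem.mp h1
      have hx2 : x ∈ P₂ := Ideal.Quotient.eq_zero_iff_mem.mp h2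
      obtain ⟨p, hp, w, hw, rfl⟩ := Submodule.mem_sup.mp hx1
      obtain ⟨p', hp', w', hw', he⟩ := Submodule.mem_sup.mp hx2
      obtain ⟨a, rfl⟩ := Ideal.mem_span_singleton'.mp hw
      obtain ⟨b, rfl⟩ := Ideal.mem_span_singleton'.mp hw'
      rw [Ideal.Quotient.eq_zero_iff_mem]
      have e1 : p + a * ε = p * (1 - ε) + p' * ε := by
        have h3 : a * ε = (p' + b * (1 - ε) - p) * ε := by
          rw [show p' + b * (1 - ε) - p = a * ε by rw [he]; ring, mul_assoc, hε]
        have h4 : b * (1 - ε) * ε = 0 := by rw [mul_assoc, sub_mul, one_mul, hε, sub_self, mul_zero]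
        rw [h3, sub_mul, add_mul, h4]
        ring
      rw [e1]
      exact add_mem (Ideal.mul_mem_right _ _ hp) (Ideal.mul_mem_right _ _ hp')
    · rintro ⟨q₁, q₂⟩
      obtain ⟨x, rfl⟩ := Ideal.Quotient.mk_surjective q₁
      obtain ⟨y, rfl⟩ := Ideal.Quotient.mk_surjective q₂
      refine ⟨Ideal.Quotient.mk P (x * (1 - ε) + y * ε), Prod.ext ?_ ?_⟩
      · refine Ideal.Quotient.eq.mpr (Ideal.mem_sup_right (Ideal.mem_span_singleton'.mpr ⟨y - x, ?_⟩))
        ring
      · refine Ideal.Quotient.eq.mpr (Ideal.mem_sup_right (Ideal.mem_span_singleton'.mpr ⟨x - y, ?_⟩))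
        ring
  let D := T ⧸ P₂
  let eTP : (T ⧸ P) ≃ₐ[E] ((T ⧸ P₁) × D) := AlgEquiv.ofBijective _ hbij
  let JE := J.map (algebraMap C E)
  let Φ : T →ₐ[E] (E ⧸ JE) := (Ideal.Quotient.mkₐ E JE).comp φ
  have hΦs : Function.Surjective Φ := fun q => by
    obtain ⟨e, rfl⟩ := Ideal.Quotient.mk_surjective q
    refine ⟨e ⊗ₜ 1, ?_⟩
    show Ideal.Quotient.mk JE (φ (e ⊗ₜ 1)) = _
    erw [Algebra.TensorProduct.lift_tmul]
    rw [map_one, mul_one]
    rfl
  have hPφ : P.map φ.toRingHom = JE := by
    have : φ.toRingHom.comp (Algebra.TensorProduct.includeRight : C →ₐ[A] T).toRingHom = algebraMap C E := by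
      refine RingHom.ext fun y => ?_
      show φ ((1 : E) ⊗ₜ y) = _
      erw [Algebra.TensorProduct.lift_tmul]
      rw [map_one, one_mul]
      rfl
    rw [show P = J.map (Algebra.TensorProduct.includeRight : C →ₐ[A] T).toRingHom from rfl, Ideal.map_map, this]
  have hΦk : RingHom.ker Φ.toRingHom = P₁ := by
    refine le_antisymm (fun x hx => ?_) (sup_le (fun x hx => ?_) ?_)
    · have hx' : φ x ∈ JE := Ideal.Quotient.eq_zero_iff_mem.mp hx
      rw [← hPφ] at hx'
      have hsurj : Function.Surjective φ.toRingHom := fun e => ⟨e ⊗ₜ 1, by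
        show φ (e ⊗ₜ 1) = e
        erw [Algebra.TensorProduct.lift_tmul]
        rw [map_one, mul_one]
        rfl⟩
      obtain ⟨p, hp, hpx⟩ := (Ideal.mem_map_iff_of_surjective _ hsurj).mp hx'
      obtain ⟨t, ht⟩ := (hker (x - p)).mp (by rw [map_sub, sub_eq_zero]; exact hpx.symm)
      rw [show x = p + t * ε by rw [← ht]; ring]
      exact Submodule.add_mem_sup hp (Ideal.mem_span_singleton'.mpr ⟨t, rfl⟩)
    · refine Ideal.Quotient.eq_zero_iff_mem.mpr ?_
      rw [← hPφ]
      exact Ideal.mem_map_of_mem φ.toRingHom hx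
    · rw [Ideal.span_singleton_le_iff_mem]
      refine Ideal.Quotient.eq_zero_iff_mem.mpr ?_
      show φ ε ∈ JE
      rw [show φ ε = 0 from (hker ε).mpr ⟨1, (one_mul ε).symm⟩]
      exact zero_mem _
  let e₁ : (T ⧸ P₁) ≃ₐ[E] (E ⧸ JE) :=
    (Ideal.quotientEquivAlgOfEq E hΦk.symm).trans (Ideal.quotientKerAlgEquivOfSurjective hΦs)
  let e : E ⊗[A] (C ⧸ J) ≃ₗ[E] (E ⧸ JE) × D :=
    ((Algebra.TensorProduct.tensorQuotientEquiv E C E J).trans eTP).toLinearEquiv.trans
      (LinearEquiv.prodCongr e₁.toLinearEquiv (LinearEquiv.refl E D))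
  haveI : Module.Finite E D := Module.Finite.of_surjective
    ((LinearMap.snd E (E ⧸ JE) D).comp e.toLinearMap) ((LinearMap.snd_surjective (R := E) (M := E ⧸ JE) (M₂ := D)).comp e.surjective)
  refine ⟨Fitt.ideal E D 0, ?_, fun hfp => ?_⟩
  · rw [← FittLib.ideal_baseChange E 0, FittLib.ideal_eq_of_equiv e 0, FittLib.ideal_prod]
    simp [ideal_zero_quotient, E, JE]
  · haveI := hfp
    haveI : Module.FinitePresentation E ((E ⧸ JE) × D) := Module.FinitePresentation.of_equiv e
    haveI : Module.FinitePresentation E D := Module.finitePresentation_of_surjective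
      (LinearMap.snd E (E ⧸ JE) D) LinearMap.snd_surjective (by
        rw [LinearMap.ker_snd]
        exact Submodule.fg_range _)
    exact ideal_zero_fg E D

end Groth.Agent.FittEtLib
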