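import Groth.Agent.FittLib.Minor
import Groth.Agent.FittLib.BaseChange
import Mathlib

/-!
# Fitting ideals of cyclic algebras under a localization which is unramified over the base
-/

set_option autoImplicit false
set_option linter.style.haveILetI false
set_option maxHeartbeats 1000000

universe u

open TensorProduct

noncomputable section

namespace Groth.Agent.FittEtLib

variable {A C : Type u} [CommRing A] [CommRing C] [Algebra A C] (h : C)

/-- Multiplication to the localization. -/
def mu : C ⊗[A] Localization.Away h →ₐ[A] Localization.Away h :=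
  Algebra.TensorProduct.productMap (IsScalarTower.toAlgHom A C (Localization.Away h)) (AlgHom.id A _)

theorem mu_tmul (c : C) (e : Localization.Away h) : mu (A := A) h (c ⊗ₜ e) = algebraMap C _ c * e :=
  Algebra.TensorProduct.productMap_apply_tmul _ _ c e

variable [Algebra.FormallyUnramified A (Localization.Away h)]

theorem ker_isIdempotentElem :
    IsIdempotentElem (RingHom.ker (mu (A := A) h).toRingHom) := by
  let E := Localization.Away h
  let K := RingHom.ker (mu (A := A) h).toRingHom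
  let I := KaehlerDifferential.ideal A E
  let g : C →ₗ[C] E := Algebra.linearMap C E
  haveI : IsLocalizedModule (Submonoid.powers h) g := inferInstance
  let G := AlgebraTensorModule.rTensor A E g
  let ψ : C ⊗[A] E →ₐ[A] E ⊗[A] E :=
    Algebra.TensorProduct.map (IsScalarTower.toAlgHom A C E) (AlgHom.id A E)
  have hGψ : ∀ w, G w = ψ w := by
    intro w
    induction w with
    | zero => simp
    | tmul c e => rfl
    | add a b ha hb => simp only [map_add, ha, hb]
  have hsmul : ∀ (c : C) (w : C ⊗[A] E), c • w = (c ⊗ₜ[A] (1 : E)) * w := by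
    intro c w
    induction w with
    | zero => simp
    | tmul x e => simp [TensorProduct.smul_tmul', Algebra.TensorProduct.tmul_mul_tmul]
    | add a b ha hb => simp only [smul_add, mul_add, ha, hb]
  have hsmul' : ∀ (c : C) (y : E ⊗[A] E), c • y = ψ (c ⊗ₜ[A] (1 : E)) * y := by
    intro c y
    induction y with
    | zero => simp
    | tmul x e => simp [ψ, TensorProduct.smul_tmul', Algebra.TensorProduct.tmul_mul_tmul, Algebra.smul_def]
    | add a b ha hb => simp only [smul_add, mul_add, ha, hb]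
  have hmψ : ∀ w, Algebra.TensorProduct.lmul' A (ψ w) = mu (A := A) h w := by
    intro w
    induction w with
    | zero => simp
    | tmul c e =>
      simp [ψ]
      exact (mu_tmul h c e).symm
    | add a b ha hb => simp only [map_add, ha, hb]
  have hII : I * I = I := by
    have h1 : Subsingleton I.Cotangent :=
      inferInstanceAs (Subsingleton Ω[E⁄A])
    exact (Ideal.cotangent_subsingleton_iff I).mp h1
  have hu : ∀ s ∈ Submonoid.powers h, IsUnit (ψ (s ⊗ₜ[A] (1 : E))) := fun s hs => by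
    have h1 : ψ (s ⊗ₜ[A] (1 : E)) = Algebra.TensorProduct.includeLeft (S := A) (algebraMap C E s) := rfl
    rw [h1]
    exact (IsLocalization.map_units E (⟨s, hs⟩ : Submonoid.powers h)).map _
  have hIK : I = K.map ψ.toRingHom := by
    refine le_antisymm (fun y hy => ?_) (Ideal.map_le_iff_le_comap.mpr fun w hw => ?_)
    · obtain ⟨⟨w, s⟩, hws⟩ := IsLocalizedModule.surj (Submonoid.powers h) G y
      change (s : C) • y = G w at hws
      rw [hsmul', hGψ] at hws
      have hy' : Algebra.TensorProduct.lmul' A y = 0 := hy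
      have hwK : w ∈ K := by
        show mu (A := A) h w = 0
        rw [← hmψ, ← hws, map_mul, hy', mul_zero]
      obtain ⟨c, hc⟩ := hu s s.2
      rw [← hc] at hws
      have : y = (c⁻¹ : (E ⊗[A] E)ˣ).1 * ψ w := by rw [← hws, ← mul_assoc, Units.inv_mul, one_mul]
      rw [this]
      exact Ideal.mul_mem_left _ _ (Ideal.mem_map_of_mem _ hwK)
    · show Algebra.TensorProduct.lmul' A (ψ w) = 0
      rw [hmψ]
      exact hw
  refine le_antisymm Ideal.mul_le_left fun w hw => ?_
  have h1 : ψ w ∈ (K * K).map ψ.toRingHom := by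
    rw [Ideal.map_mul, ← hIK, hII, hIK]
    exact Ideal.mem_map_of_mem _ hw
  -- every element of the extended ideal is a fraction
  have hfrac : ∀ y ∈ (K * K).map ψ.toRingHom, ∃ s ∈ Submonoid.powers h, ∃ v ∈ K * K,
      ψ (s ⊗ₜ[A] (1 : E)) * y = ψ v := by
    intro y hy
    induction hy using Submodule.span_induction with
    | mem x hx =>
      obtain ⟨v, hv, rfl⟩ := hx
      exact ⟨1, one_mem _, v, hv, by
        rw [show ((1 : C) ⊗ₜ[A] (1 : E)) = 1 from rfl, map_one, one_mul]; rfl⟩
    | zero => exact ⟨1, one_mem _, 0, zero_mem _, by simp⟩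
    | add x y _ _ hx hy =>
      obtain ⟨s, hs, v, hv, hsv⟩ := hx
      obtain ⟨t, ht, v', hv', htv⟩ := hy
      refine ⟨s * t, mul_mem hs ht, (t ⊗ₜ[A] (1 : E)) * v + (s ⊗ₜ[A] (1 : E)) * v',
        add_mem (Ideal.mul_mem_left _ _ hv) (Ideal.mul_mem_left _ _ hv'), ?_⟩
      have e1 : ((s * t) ⊗ₜ[A] (1 : E)) = (s ⊗ₜ[A] (1 : E)) * (t ⊗ₜ[A] (1 : E)) := by
        rw [Algebra.TensorProduct.tmul_mul_tmul, one_mul]
      rw [e1, map_mul, map_add, map_mul, map_mul, ← hsv, ← htv]
      ring
    | smul a x _ hx =>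
      obtain ⟨s, hs, v, hv, hsv⟩ := hx
      obtain ⟨⟨b, t⟩, hbt⟩ := IsLocalizedModule.surj (Submonoid.powers h) G a
      change (t : C) • a = G b at hbt
      rw [hsmul', hGψ] at hbt
      refine ⟨t * s, mul_mem t.2 hs, b * v, Ideal.mul_mem_left _ _ hv, ?_⟩
      have e1 : (((t : C) * s) ⊗ₜ[A] (1 : E)) = ((t : C) ⊗ₜ[A] (1 : E)) * (s ⊗ₜ[A] (1 : E)) := by
        rw [Algebra.TensorProduct.tmul_mul_tmul, one_mul]
      rw [e1, map_mul, map_mul, ← hbt, ← hsv, smul_eq_mul]
      ring
  obtain ⟨s, hs, v, hv, hsv⟩ := hfrac _ h1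
  rw [← map_mul] at hsv
  have h2 : G ((s ⊗ₜ[A] (1 : E)) * w - v) = 0 := by rw [hGψ, map_sub, hsv, sub_self]
  obtain ⟨t, ht⟩ := (IsLocalizedModule.eq_zero_iff (Submonoid.powers h) G).mp h2
  have ht' : ((t : C) ⊗ₜ[A] (1 : E)) * ((s ⊗ₜ[A] (1 : E)) * w - v) = 0 := by
    rw [← hsmul]; exact ht
  have h3 : (((t : C) * s) ⊗ₜ[A] (1 : E)) * w ∈ K * K := by
    have e1 : (((t : C) * s) ⊗ₜ[A] (1 : E)) * w = ((t : C) ⊗ₜ[A] (1 : E)) * v := by
      rw [← sub_eq_zero, ← ht', mul_sub, ← mul_assoc, Algebra.TensorProduct.tmul_mul_tmul, one_mul]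
    rw [e1]
    exact Ideal.mul_mem_left _ _ hv
  obtain ⟨d, hd⟩ := (IsLocalization.map_units E (⟨(t : C) * s, mul_mem t.2 hs⟩ : Submonoid.powers h))
  let k : C ⊗[A] E := (1 : C) ⊗ₜ[A] algebraMap C E ((t : C) * s) - ((t : C) * s) ⊗ₜ[A] (1 : E)
  have hk : k ∈ K := by
    show mu (A := A) h k = 0
    show mu (A := A) h ((1 : C) ⊗ₜ[A] algebraMap C E ((t : C) * s) - ((t : C) * s) ⊗ₜ[A] (1 : E)) = 0
    rw [map_sub]
    erw [mu_tmul h, mu_tmul h]
    rw [map_one, one_mul, mul_one]
    exact sub_self _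
  have h4 : ((1 : C) ⊗ₜ[A] algebraMap C E ((t : C) * s)) * w ∈ K * K := by
    have : ((1 : C) ⊗ₜ[A] algebraMap C E ((t : C) * s)) * w = k * w + (((t : C) * s) ⊗ₜ[A] (1 : E)) * w := by
      simp only [k]; ring
    rw [this]
    exact add_mem (Ideal.mul_mem_mul hk hw) h3
  have h5 := Ideal.mul_mem_left _ ((1 : C) ⊗ₜ[A] (d⁻¹ : Eˣ).1) h4
  rwa [← mul_assoc, Algebra.TensorProduct.tmul_mul_tmul, one_mul, ← hd, Units.inv_mul,
    show ((1 : C) ⊗ₜ[A] (1 : E)) = 1 from rfl, one_mul] at h5

theorem ker_fg [Module.Finite A C] : (RingHom.ker (mu (A := A) h).toRingHom).FG := by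
  classical
  obtain ⟨S, hS⟩ := Module.Finite.fg_top (R := A) (M := C)
  let E := Localization.Away h
  let δ : C → C ⊗[A] E := fun c => c ⊗ₜ[A] (1 : E) - (1 : C) ⊗ₜ[A] algebraMap C E c
  have hδmem : ∀ c, δ c ∈ RingHom.ker (mu (A := A) h).toRingHom := fun c => by
    show mu (A := A) h (c ⊗ₜ[A] (1 : E) - (1 : C) ⊗ₜ[A] algebraMap C E c) = 0
    rw [map_sub]
    erw [mu_tmul h, mu_tmul h]
    rw [map_one, one_mul, mul_one]
    exact sub_self _
  let J : Ideal (C ⊗[A] E) := Ideal.span (δ '' (S : Set C))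
  refine ⟨S.image δ, le_antisymm ?_ ?_⟩
  · rw [Finset.coe_image]
    exact Ideal.span_le.mpr (by rintro _ ⟨c, -, rfl⟩; exact hδmem c)
  rw [Finset.coe_image]
  have hc : ∀ c : C, δ c ∈ J := fun c => by
    have : c ∈ Submodule.span A (S : Set C) := hS ▸ Submodule.mem_top
    induction this using Submodule.span_induction with
    | mem x hx => exact Ideal.subset_span ⟨x, hx, rfl⟩
    | zero => simp [δ]
    | add x y _ _ hx hy =>
      have : δ (x + y) = δ x + δ y := by simp [δ, TensorProduct.add_tmul, TensorProduct.tmul_add]; abel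
      rw [this]; exact add_mem hx hy
    | smul a x _ hx =>
      have : δ (a • x) = a • δ x := by
        simp only [δ, smul_sub, ← TensorProduct.smul_tmul', ← TensorProduct.tmul_smul]
        rw [← IsScalarTower.coe_toAlgHom' A C E, map_smul]
      rw [this]
      exact Submodule.smul_of_tower_mem J a hx
  intro w hw
  have key : ∀ w : C ⊗[A] E, w - (1 : C) ⊗ₜ[A] mu (A := A) h w ∈ J := by
    intro w
    induction w with
    | zero => simp
    | tmul c e =>
      have : c ⊗ₜ[A] e - (1 : C) ⊗ₜ[A] mu (A := A) h (c ⊗ₜ e) = ((1 : C) ⊗ₜ[A] e) * δ c := by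
        simp only [δ, mu_tmul, mul_sub, Algebra.TensorProduct.tmul_mul_tmul, one_mul, mul_one]
        rw [mul_comm]
      rw [this]
      exact Ideal.mul_mem_left _ _ (hc c)
    | add a b ha hb =>
      have : a + b - (1 : C) ⊗ₜ[A] mu (A := A) h (a + b) =
          (a - (1 : C) ⊗ₜ[A] mu (A := A) h a) + (b - (1 : C) ⊗ₜ[A] mu (A := A) h b) := by
        rw [map_add, TensorProduct.tmul_add]; abel
      rw [this]; exact add_mem ha hb
  have h1 := key w
  rw [show mu (A := A) h w = 0 from hw, TensorProduct.tmul_zero, sub_zero] at h1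
  exact h1

end Groth.Agent.FittEtLib
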